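import Groth.Agent.S0568
import Groth.Agent.CMSop.Depth
import Groth.Agent.Hensel.Branches
import Groth.Agent.Purity.Global
import Groth.Agent.SegreDim.Noether
import Groth.Prelude.Def_Found
import Mathlib

/-! # The condition `c₂` ascends along flat local maps out of complete local rings -/

set_option autoImplicit false
set_option linter.style.haveILetI false

universe u

open IsLocalRing TensorProduct

namespace Groth.Agent.CTwoCpl

/-- A flat local algebra over a normal local domain with a regular pair: maximal-point quotients have dim ≥ 2. -/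
theorem two_le_of_pair {C D : Type u} [CommRing C] [CommRing D] [IsNoetherianRing D] [IsLocalRing C]
    [Algebra C D] [Module.Flat C D] (a b : C) (hab : Purity.TwoWith a b C) (Q : Ideal D)
    (hQ : Q ∈ minimalPrimes D) (N : Ideal D) [N.IsPrime] (hle : Q ≤ N)
    (hN : (maximalIdeal C).map (algebraMap C D) ≤ N) (ha : a ∈ maximalIdeal C) (hb : b ∈ maximalIdeal C) :
    (2 : WithBot ℕ∞) ≤ ringKrullDim (D ⧸ Q) := by
  haveI : Q.IsPrime := hQ.1.1
  let DN := Localization.AtPrime N
  have hdis : Disjoint (N.primeCompl : Set D) (Q : Set D) := Set.disjoint_left.2 fun x hx hxQ => hx (hle hxQ)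
  let QN := Q.map (algebraMap D DN)
  haveI hQNp : QN.IsPrime := IsLocalization.isPrime_of_isPrime_disjoint N.primeCompl DN Q ‹_› hdis
  have hcomap : QN.comap (algebraMap D DN) = Q := IsLocalization.comap_map_of_isPrime_disjoint N.primeCompl DN ‹_› hdis
  have hmin : QN ∈ minimalPrimes DN := by
    refine ⟨⟨hQNp, bot_le⟩, fun P hP hPle => ?_⟩
    haveI := hP.1
    have h1 : Q ≤ P.comap (algebraMap D DN) :=
      hQ.2 ⟨inferInstance, bot_le⟩ ((Ideal.comap_mono hPle).trans hcomap.le)
    exact Ideal.map_le_iff_le_comap.2 h1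
  have hass : QN ∈ associatedPrimes DN DN := by
    refine Module.associatedPrimes.minimalPrimes_annihilator_subset_associatedPrimes DN DN ?_
    rwa [show Module.annihilator DN DN = ⊥ from Module.annihilator_eq_bot.2 inferInstance]
  haveI : Module.Flat C DN := Module.Flat.trans C D DN
  have hweak : RingTheory.Sequence.IsWeaklyRegular C [a, b] := by
    rw [RingTheory.Sequence.isWeaklyRegular_cons_iff]
    refine ⟨isSMulRegular_iff_right_eq_zero_of_smul.2 hab.inj, ?_⟩
    rw [RingTheory.Sequence.isWeaklyRegular_cons_iff]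
    refine ⟨isSMulRegular_iff_right_eq_zero_of_smul.2 fun q hq => ?_, RingTheory.Sequence.IsWeaklyRegular.nil _ _⟩
    obtain ⟨y, rfl⟩ := Submodule.Quotient.mk_surjective _ q
    rw [← Submodule.Quotient.mk_smul, Submodule.Quotient.mk_eq_zero, Submodule.mem_smul_pointwise_iff_exists] at hq
    obtain ⟨w, -, hw⟩ := hq
    obtain ⟨z, rfl⟩ := hab.cancel y w hw.symm
    rw [Submodule.Quotient.mk_eq_zero, Submodule.mem_smul_pointwise_iff_exists]
    exact ⟨z, Submodule.mem_top, rfl⟩
  have hweakN : RingTheory.Sequence.IsWeaklyRegular DN ([a, b].map (algebraMap C DN)) :=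
    RingTheory.Sequence.IsWeaklyRegular.of_flat hweak
  have hmem : ∀ r ∈ [a, b].map (algebraMap C DN), r ∈ maximalIdeal DN := by
    intro r hr
    obtain ⟨c, hc, rfl⟩ := List.mem_map.1 hr
    rw [IsScalarTower.algebraMap_apply C D DN, IsLocalization.AtPrime.to_map_mem_maximal_iff DN N]
    have hcm : c ∈ maximalIdeal C := by
      rcases List.mem_cons.1 hc with h | h
      · exact h ▸ ha
      · exact (List.mem_singleton.1 h) ▸ hb
    exact hN (Ideal.mem_map_of_mem _ hcm)
  have h2 := CMSop.le_ringKrullDim_quotient_of_hasRegSeq 2 inferInstance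
    (CMSop.hasRegSeq_of_isWeaklyRegular _ DN hweakN hmem) QN hass
  refine h2.trans ?_
  let g : D ⧸ Q →+* DN ⧸ QN := Ideal.quotientMap QN (algebraMap D DN) hcomap.ge
  refine Order.krullDim_le_of_strictMono (PrimeSpectrum.comap g) ?_
  have hinj : Function.Injective (PrimeSpectrum.comap g) := by
    intro x y hxy
    have h := congrArg (PrimeSpectrum.comap (Ideal.Quotient.mk Q)) hxy
    have e : g.comp (Ideal.Quotient.mk Q) = (Ideal.Quotient.mk QN).comp (algebraMap D DN) := RingHom.ext fun r => rfl
    rw [← PrimeSpectrum.comap_comp_apply, ← PrimeSpectrum.comap_comp_apply, e, PrimeSpectrum.comap_comp_apply,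
      PrimeSpectrum.comap_comp_apply] at h
    exact PrimeSpectrum.comap_injective_of_surjective _ Ideal.Quotient.mk_surjective
      (PrimeSpectrum.localization_comap_injective DN N.primeCompl h)
  exact fun x y hxy => lt_of_le_of_ne (Ideal.comap_mono (f := g) hxy.le) fun h => hxy.ne (hinj h)

theorem lift_step {A B C : Type u} [CommRing A] [CommRing B] [CommRing C] [IsNoetherianRing B]
    [IsLocalRing A] [IsLocalRing B] [IsLocalRing C] [Algebra A B] [IsLocalHom (algebraMap A B)] [Module.Flat A B]
    [Algebra A C] [Module.Finite A C] (q : Ideal B) (hq : q ∈ minimalPrimes B) (p : Ideal A)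
    (hpq : q.comap (algebraMap A B) = p) (hpC : ∀ z ∈ p, algebraMap A C z = 0)
    (hinjC : Function.Injective (Ideal.Quotient.liftₐ p (Algebra.ofId A C) hpC))
    (a b : C) (ha : a ∈ maximalIdeal C) (hb : b ∈ maximalIdeal C) (hab : Purity.TwoWith a b C) :
    (2 : WithBot ℕ∞) ≤ ringKrullDim (B ⧸ q) := by
  haveI : q.IsPrime := hq.1.1
  haveI : Algebra.IsIntegral A C := Algebra.IsIntegral.of_finite A C
  subst hpq
  let D := C ⊗[A] B
  letI : Algebra B D := Algebra.TensorProduct.rightAlgebra
  haveI : Module.Finite B D := Module.Finite.of_surjective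
    ({ toFun := TensorProduct.comm A B C
       map_add' := map_add _
       map_smul' := fun r z => by
        induction z with
        | zero => simp
        | add x y hx hy => simp only [smul_add, map_add, hx, hy]
        | tmul x c =>
          rw [TensorProduct.smul_tmul', TensorProduct.comm_tmul, TensorProduct.comm_tmul, RingHom.id_apply, smul_eq_mul, Algebra.smul_def]
          show c ⊗ₜ[A] (r * x) = ((1 : C) ⊗ₜ[A] r) * (c ⊗ₜ[A] x)
          rw [Algebra.TensorProduct.tmul_mul_tmul, one_mul] } : B ⊗[A] C →ₗ[B] D)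
    (TensorProduct.comm A B C).surjective
  haveI : IsNoetherianRing D := IsNoetherianRing.of_finite B D
  haveI : Module.Flat C D := inferInstance
  haveI : Algebra.IsIntegral B D := Algebra.IsIntegral.of_finite B D
  have hkey : ∀ x : B, algebraMap B D x = 0 → x ∈ q := by
    intro x hx
    let ι : (A ⧸ q.comap (algebraMap A B)) ⊗[A] B →ₗ[A] D := ((Ideal.Quotient.liftₐ _ (Algebra.ofId A C) hpC).toLinearMap).rTensor B
    have hι : Function.Injective ι := Module.Flat.rTensor_preserves_injective_linearMap _ hinjC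
    have h1 : ι (1 ⊗ₜ[A] x) = ι 0 := by
      rw [map_zero, ← hx]
      show (Ideal.Quotient.liftₐ _ (Algebra.ofId A C) hpC 1) ⊗ₜ[A] x = (1 : C) ⊗ₜ[A] x
      rw [map_one]
    have h2 := hι h1
    let e : (A ⧸ q.comap (algebraMap A B)) ⊗[A] B →ₐ[A] B ⧸ q := Algebra.TensorProduct.lift
      (Ideal.Quotient.liftₐ _ (Algebra.ofId A (B ⧸ q)) fun z hz => Ideal.Quotient.eq_zero_iff_mem.2 hz)
      (Ideal.Quotient.mkₐ A q) fun _ _ => .all _ _
    have h3 := congrArg e h2
    rw [map_zero, Algebra.TensorProduct.lift_tmul, map_one, one_mul] at h3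
    exact Ideal.Quotient.eq_zero_iff_mem.1 h3
  obtain ⟨Q₁, -, hQ₁p, hQ₁⟩ := Ideal.exists_ideal_over_prime_of_isIntegral q (⊥ : Ideal D) fun x hx => hkey x (by simpa using hx)
  haveI := hQ₁p
  obtain ⟨Q, hQ, hQle⟩ := Ideal.exists_minimalPrimes_le (bot_le (a := Q₁))
  haveI : Q.IsPrime := hQ.1.1
  have hQq : Q.comap (algebraMap B D) = q :=
    le_antisymm ((Ideal.comap_mono hQle).trans hQ₁.le)
      (hq.2 ⟨inferInstance, bot_le⟩ ((Ideal.comap_mono hQle).trans hQ₁.le))
  obtain ⟨N, hN, hQN⟩ := Ideal.exists_le_maximal Q hQ.1.1.ne_top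
  haveI := hN
  have hNB : N.comap (algebraMap B D) = maximalIdeal B :=
    eq_maximalIdeal (Ideal.isMaximal_comap_of_isIntegral_of_isMaximal N)
  have hNC : (maximalIdeal C).map (algebraMap C D) ≤ N := by
    rw [Ideal.map_le_iff_le_comap]
    haveI : ((N.comap (algebraMap C D)).comap (algebraMap A C)).IsMaximal := by
      have : (N.comap (algebraMap C D)).comap (algebraMap A C) = (N.comap (algebraMap B D)).comap (algebraMap A B) := by
        simp only [Ideal.comap_comap]
        congr 1
        ext r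
        show algebraMap A C r ⊗ₜ[A] (1 : B) = (1 : C) ⊗ₜ[A] algebraMap A B r
        rw [Algebra.algebraMap_eq_smul_one, smul_tmul, Algebra.algebraMap_eq_smul_one]
      rw [this, hNB, IsLocalRing.maximalIdeal_comap]
      infer_instance
    exact (eq_maximalIdeal (Ideal.isMaximal_of_isIntegral_of_isMaximal_comap (R := A) _ inferInstance)).ge
  have h := two_le_of_pair a b hab Q hQ N hQN hNC ha hb
  refine h.trans (le_of_eq ?_)
  let g : B ⧸ q →+* D ⧸ Q := Ideal.quotientMap Q (algebraMap B D) hQq.ge
  letI : Algebra (B ⧸ q) (D ⧸ Q) := g.toAlgebra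
  haveI : IsScalarTower B (B ⧸ q) (D ⧸ Q) := .of_algebraMap_eq fun _ => rfl
  haveI : Algebra.IsIntegral (B ⧸ q) (D ⧸ Q) := Algebra.IsIntegral.tower_top B
  exact (SegreDim.ringKrullDim_eq_of_injective_integral (A := B ⧸ q) (B := D ⧸ Q)
    (Ideal.quotientMap_injective' hQq.le)).symm

theorem core {A B : Type u} [CommRing A] [CommRing B] [IsNoetherianRing A] [IsNoetherianRing B]
    [IsLocalRing A] [IsLocalRing B] [IsAdicComplete (maximalIdeal A) A] [Algebra A B]
    [IsLocalHom (algebraMap A B)] [Module.Flat A B]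
    (hA : ∀ q ∈ minimalPrimes A, (2 : WithBot ℕ∞) ≤ ringKrullDim (A ⧸ q)) :
    ∀ q ∈ minimalPrimes B, (2 : WithBot ℕ∞) ≤ ringKrullDim (B ⧸ q) := by
  intro q hq
  haveI : q.IsPrime := hq.1.1
  let p := q.comap (algebraMap A B)
  have hp : p ∈ minimalPrimes A := by
    refine ⟨⟨inferInstance, bot_le⟩, fun r hr hrp => ?_⟩
    haveI := hr.1
    by_contra hne
    haveI : q.LiesOver p := ⟨rfl⟩
    obtain ⟨P, hPq, hP, hPr⟩ := Ideal.exists_ideal_lt_liesOver_of_lt q (lt_of_le_not_ge hrp hne)
    exact (hPq.not_ge (hq.2 ⟨hP, bot_le⟩ hPq.le)).elim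
  haveI : p.IsPrime := hp.1.1
  let C := integralClosure (A ⧸ p) (FractionRing (A ⧸ p))
  haveI : Module.Finite (A ⧸ p) C := (S0568.result A).2 p (FractionRing (A ⧸ p)) inferInstance
  haveI : Module.Finite A C := Module.Finite.trans (A ⧸ p) C
  haveI : IsNoetherianRing C := IsNoetherianRing.of_finite A C
  haveI : Algebra.IsIntegral A C := Algebra.IsIntegral.of_finite A C
  haveI : HenselianLocalRing A :=
    let h := IsAdicComplete.henselianRing A (maximalIdeal A)
    { is_henselian := fun f hf a₀ h₁ h₂ => h.is_henselian f hf a₀ h₁ (h₂.map (Ideal.Quotient.mk _)) }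
  haveI : IsLocalRing C := Hensel.isLocalRing_of_integral_domain A C
  haveI : IsIntegrallyClosed C := integralClosure.isIntegrallyClosedOfFiniteExtension (FractionRing (A ⧸ p))
  have hinjC : Function.Injective (algebraMap (A ⧸ p) C) := FaithfulSMul.algebraMap_injective _ _
  have hdim : ringKrullDim C = ringKrullDim (A ⧸ p) := (SegreDim.ringKrullDim_eq_of_injective_integral hinjC).symm
  obtain ⟨a, b, ha, hb, -, -, hab⟩ := Purity.exists_pair_normal (maximalIdeal C) fun P hP hle => by
    rw [← (maximalIdeal.isMaximal C).eq_of_le hP.ne_top hle]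
    have := hA p hp
    rw [← hdim, ← IsLocalRing.maximalIdeal_height_eq_ringKrullDim] at this
    exact WithBot.coe_le_coe.mp this
  refine lift_step (C := C) q hq p rfl (fun z hz => ?_) ?_ a b ha hb hab
  · rw [IsScalarTower.algebraMap_apply A (A ⧸ p) C]
    show algebraMap (A ⧸ p) C (Ideal.Quotient.mk p z) = 0
    rw [Ideal.Quotient.eq_zero_iff_mem.2 hz, map_zero]
  · intro x y hxy
    obtain ⟨x, rfl⟩ := Ideal.Quotient.mk_surjective x
    obtain ⟨y, rfl⟩ := Ideal.Quotient.mk_surjective y
    exact hinjC hxy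

end Groth.Agent.CTwoCpl
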